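import Mathlib
import Cfsg.Agent.H671.H5Facts
import Cfsg.Agent.H691.StExt
import Cfsg.Agent.H979.LieSplit
import Cfsg.Agent.H687.Good
import Cfsg.Agent.Prune
set_option linter.all false
prune_inst 0x7f00000000000000000000000000000000000000000000000000000000000000000000000000000000000000000000000000000000000000000000000000000000000000000000000000000000000000003fffffffffffffffffffffffffffbeffbdffffffff
open scoped Cfsg.Agent.FastGrp

/-!
# The Steinberg character extends to the automorphism group (helper761, task 378 of helper671)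
-/

set_option autoImplicit false

universe u

namespace Cfsg.Agent.H761.LieExt

open Cfsg

theorem ext_of_hasSplit {p : ℕ} [Fact p.Prime] {S : Type*} [Group S] [Finite S] (h : FixBN.HasSplit p S) :
    ∃ θ : Cfsg.IrrCharacter S, Cfsg.charDegree (θ : S → ℂ) = p ^ (Nat.card S).factorization p ∧
      Cfsg.Agent.H671.H5.ExtAut θ := by
  obtain ⟨χ, h1, h2, h3⟩ := H691.StExt.exists_ext_hom h (MulAut.conj : S →* MulAut S) (MonoidHom.id _)
    (fun k => rfl)
  refine ⟨⟨_, h2⟩, ?_, ⟨χ, h1⟩, fun s => rfl⟩
  have Q : Sylow p S := default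
  apply H687.charDegree_of_eq
  show χ (MulAut.conj (1 : S)) = _
  rw [map_one, h3 Q, Q.card_eq_multiplicity]

/-- **The Steinberg character of a finite simple group of Lie type extends to the automorphism group.** -/
theorem lie_ext {p : ℕ} [hp : Fact p.Prime] {S : Type u} [Group S] [Finite S] [IsSimpleGroup S]
    (_hna : ¬ IsMulCommutative S) (h : Cfsg.IsLieTypeChar p S) : ∃ θ : Cfsg.IrrCharacter S,
      Cfsg.charDegree (θ : S → ℂ) = p ^ (Nat.card S).factorization p ∧ Cfsg.Agent.H671.H5.ExtAut θ :=
  ext_of_hasSplit (H979.LieSplit.hasSplit_of_isLieTypeChar hp.1 h)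

end Cfsg.Agent.H761.LieExt
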