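import Mathlib
import Cfsg.Agent.H792.SpHeis_m3
import Cfsg.Agent.H51.Tools
import Cfsg.Agent.H68.TitsMul
import Cfsg.Agent.FastGrp
import Cfsg.Agent.Prune
set_option linter.all false

section
prune_inst 0x7f00000000000000000000000000000000000000000000000000000000000000000000000000000000000000000000000000000000000000000000000000000000000000000000000000000000000000003fffffffffffffffffffffffffffbeffbdffffffff

-- part: H761/ExtraFull
section
set_option linter.all false
open scoped Cfsg.Agent.FastGrp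

/-!
# `FullP p G` from explicit generators of an extraspecial Sylow subgroup of order `p ^ 3` (helper761)

`fullP_of_extra` : `x ^ p = y ^ p = 1`, `z = ⁅x, y⁆ ≠ 1` commutes with `x` and `y`, `p ^ 4 ∤ |G|`, and `x`, `y` are conjugate to `z`.
-/

set_option autoImplicit false

namespace Cfsg.Agent.H761.ExtraFull

open Subgroup Cfsg Cfsg.Agent.H749 Cfsg.Agent.H792.SpTool
open scoped commutatorElement

variable {p : ℕ} [hp : Fact p.Prime] {G : Type*} [Group G] [Finite G]

/-- in a nonabelian group of order `p ^ 3` the centre has order `p` -/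
theorem mem_zpowers_of_center {S : Type*} [Group S] [Finite S] (hS : Nat.card S = p ^ 3) {a b : S} (hab : a * b ≠ b * a)
    {d z : S} (hd : d ∈ center S) (hd1 : d ≠ 1) (hz : z ∈ center S) : z ∈ zpowers d := by
  have h1 : Nat.card (center S) ∣ p ^ 3 := hS ▸ Subgroup.card_subgroup_dvd_card _
  obtain ⟨k, hk3, hk⟩ := (Nat.dvd_prime_pow hp.out).1 h1
  have hlt : k < 2 := by
    by_contra hcon
    have hidx : (center S).index * p ^ k = p ^ 3 := by rw [← hk, ← hS, Subgroup.index_mul_card]
    have h2 : Nat.card (S ⧸ center S) ∣ p := by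
      have h3 : Nat.card (S ⧸ center S) = (center S).index := rfl
      rw [h3]
      have h4 : p ^ 3 = p * p ^ 2 := by ring
      have h5 : (center S).index * p ^ 2 ∣ p * p ^ 2 := by
        rw [← h4, ← hidx]
        exact mul_dvd_mul_left _ (pow_dvd_pow p (by omega))
      exact Nat.dvd_of_mul_dvd_mul_right (pow_pos hp.out.pos 2) h5
    have h6 : IsCyclic (S ⧸ center S) := by
      rcases (Nat.dvd_prime hp.out).1 h2 with h | h
      · have := (Nat.card_eq_one_iff_unique.1 h).1
        infer_instance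
      · exact isCyclic_of_prime_card h
    apply hab
    exact commutative_of_cyclic_center_quotient (QuotientGroup.mk' (center S)) (by rw [QuotientGroup.ker_mk']) a b
  have hk1 : Nat.card (center S) = p := by
    interval_cases k
    · exfalso
      rw [pow_zero] at hk
      have := Subgroup.card_eq_one.1 hk
      rw [this, mem_bot] at hd
      exact hd1 hd
    · rw [hk, pow_one]
  have h7 : zpowers d = center S := by
    refine Subgroup.eq_of_le_of_card_ge (zpowers_le.2 hd) ?_
    rw [hk1]
    have h8 : Nat.card (zpowers d) ∣ p := hk1 ▸ Subgroup.card_dvd_of_le (zpowers_le.2 hd)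
    rcases (Nat.dvd_prime hp.out).1 h8 with h | h
    · exfalso
      rw [Subgroup.card_eq_one, zpowers_eq_bot] at h
      exact hd1 h
    · exact h.ge
  rw [h7]
  exact hz

/-- **Extraspecial Sylow subgroups**. -/
theorem fullP_of_extra {x y gx gy : G} (hx : x ^ p = 1) (hy : y ^ p = 1)
    (hcx : ⁅x, y⁆ * x = x * ⁅x, y⁆) (hcy : ⁅x, y⁆ * y = y * ⁅x, y⁆) (hc1 : ⁅x, y⁆ ≠ 1)
    (h4 : ¬ p ^ 4 ∣ Nat.card G) (hgx : gx * ⁅x, y⁆ = x * gx) (hgy : gy * ⁅x, y⁆ = y * gy) : FullP p G := by
  set z := ⁅x, y⁆ with hz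
  have hnd := H51.Tools.not_dvd_index_extra hp.out hx hy hcx hcy hc1 h4
  have hQp : IsPGroup p (closure ({x, y} : Set G)) := by
    have hcz : z ^ p = 1 := by
      have e : gx * z * gx⁻¹ = x := by rw [hgx]; group
      have h1 : (gx * z * gx⁻¹) ^ p = 1 := by rw [e, hx]
      rw [conj_pow] at h1
      exact conj_eq_one_iff.1 h1
    exact H51.Tools.isPGroup_closure hx hy hcz hcx hcy
  let S : Sylow p G := IsPGroup.toSylow hQp hnd
  have hSe : (S : Subgroup G) = closure {x, y} := rfl
  have hxS : x ∈ (S : Subgroup G) := subset_closure (by simp)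
  have hyS : y ∈ (S : Subgroup G) := subset_closure (by simp)
  have hzS : z ∈ (S : Subgroup G) := by
    rw [hz, commutatorElement_def]
    exact mul_mem (mul_mem (mul_mem hxS hyS) (inv_mem hxS)) (inv_mem hyS)
  have hcard : Nat.card (S : Subgroup G) = p ^ 3 := by
    have h1 : p ^ 3 ∣ Nat.card (S : Subgroup G) := H51.Tools.cube_dvd_card hp.out hx hy hcx hcy hc1
    obtain ⟨n, hn⟩ := IsPGroup.iff_card.mp S.2
    rw [hn] at h1 ⊢
    have h2 : 3 ≤ n := (Nat.pow_dvd_pow_iff_le_right hp.out.one_lt).1 h1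
    have h3 : ¬ 4 ≤ n := by
      intro h
      apply h4
      exact (pow_dvd_pow p h).trans (hn ▸ Subgroup.card_subgroup_dvd_card _)
    have : n = 3 := by omega
    rw [this]
  rintro P hP ⟨q, hq, hq1, hPq⟩ w hw
  obtain ⟨d, hd, hd1, hdc⟩ := H280.StrongFusion.exists_mem_center S (part_closed hP S) (part_ne_bot hP S hq hq1 hPq)
  have hab : (⟨x, hxS⟩ : (S : Subgroup G)) * ⟨y, hyS⟩ ≠ ⟨y, hyS⟩ * ⟨x, hxS⟩ := by
    intro h
    apply hc1
    rw [hz, commutatorElement_eq_one_iff_mul_comm]
    exact congrArg Subtype.val h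
  have hzc : (⟨z, hzS⟩ : (S : Subgroup G)) ∈ center (S : Subgroup G) := by
    rw [mem_center_iff]
    rintro ⟨g, hg⟩
    apply Subtype.ext
    change g * z = z * g
    have h1 : (S : Subgroup G) ≤ centralizer {z} := by
      rw [hSe, closure_le]
      rintro a (rfl | rfl)
      · exact mem_centralizer_singleton_iff.2 hcx.symm
      · exact mem_centralizer_singleton_iff.2 hcy.symm
    exact mem_centralizer_singleton_iff.1 (h1 hg)
  have hdc' : (⟨d, hd.1⟩ : (S : Subgroup G)) ∈ center (S : Subgroup G) := by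
    rw [mem_center_iff]
    rintro ⟨g, hg⟩
    exact Subtype.ext (hdc g hg)
  have hPz : P z := by
    obtain ⟨n, hn⟩ := mem_zpowers_iff.1 (mem_zpowers_of_center hcard hab hdc' (fun h => hd1 (congrArg Subtype.val h)) hzc)
    have h1 : d ^ n = z := congrArg Subtype.val hn
    have h2 : z ∈ part hP S := h1 ▸ zpow_mem hd n
    exact h2.2
  have hPx : P x := by
    have e : gx * z * gx⁻¹ = x := by rw [hgx]; group
    rw [← e]; exact hP.conj gx hPz
  have hPy : P y := by
    have e : gy * z * gy⁻¹ = y := by rw [hgy]; group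
    rw [← e]; exact hP.conj gy hPz
  have hle : (S : Subgroup G) ≤ part hP S := by
    conv_lhs => rw [hSe]
    rw [closure_le]
    rintro a (rfl | rfl)
    · exact ⟨hxS, hPx⟩
    · exact ⟨hyS, hPy⟩
  exact all_of_sylow hP S (fun a ha => (hle ha).2) hw

end Cfsg.Agent.H761.ExtraFull
end

-- part: H761/TitsFull
section
set_option linter.all false
open scoped Cfsg.Agent.FastGrp

/-!
# `FullP 3` for the Tits group (helper761)
-/

set_option autoImplicit false
set_option linter.style.haveILetI false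

namespace Cfsg.Agent.H761.TitsFull

open Subgroup Cfsg Cfsg.Agent.H749
open Cfsg.Agent.H68.TitsMul Cfsg.Agent.H51.Mult Cfsg.Agent.H51.Crit Cfsg.Agent.H51.Tools
open Cfsg.Agent.ChevalleyStructure.Tits.Mat Cfsg.Agent.ChevalleyStructure.Tits.Order
open scoped commutatorElement

def gx : List ℕ := [1, 4, 2, 7, 1, 4, 1, 3]
def gy : List ℕ := [6, 2, 1, 4, 3, 4]

theorem three_x : E (gx ++ rep 8 w3) = E (x3 ++ gx) := E_eq (by decide +kernel)
theorem three_y : E (gy ++ rep 8 w3) = E (y3 ++ gy) := E_eq (by decide +kernel)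

instance fact_three : Fact (Nat.Prime 3) := ⟨Nat.prime_three⟩

theorem fullP_H0 : FullP 3 (commutator H0) := by
  have hx : E x3 ^ 3 = 1 := by rw [← E_rep, three_e, E_nil]
  have hy : E y3 ^ 3 = 1 := by rw [← E_rep, three_f, E_nil]
  have hc : ⁅E x3, E y3⁆ = E w3 ^ 8 := by
    rw [mul_comm_of_comm, ← E_append, three_b, E_append, E_append, E_rep]
  have hcx : E w3 ^ 8 * E x3 = E x3 * E w3 ^ 8 := by rw [← E_rep, ← E_append, three_c, E_append]
  have hcy : E w3 ^ 8 * E y3 = E y3 * E w3 ^ 8 := by rw [← E_rep, ← E_append, three_d, E_append]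
  have hc1 : E w3 ^ 8 ≠ 1 := by rw [← E_rep, ← E_nil]; exact three_i
  refine ExtraFull.fullP_of_extra (gx := E gx) (gy := E gy) hx hy ?_ ?_ ?_ ?_ ?_ ?_
  · rw [hc]; exact hcx
  · rw [hc]; exact hcy
  · rw [hc]; exact hc1
  · rw [card_X]; norm_num
  · rw [hc, ← E_rep, ← E_append, three_x, E_append]
  · rw [hc, ← E_rep, ← E_append, three_y, E_append]

theorem fullP_aux (K : Subgroup (GL I52 (ZMod 2))) (hK : K = H0) : FullP 3 (commutator K) := by
  subst hK
  exact fullP_H0

theorem fullP_titsGroup : FullP 3 Cfsg.Lie.TitsGroup :=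
  fullP_aux _ Cfsg.Agent.ChevalleyStructure.Tits.Main.T0_eq_H0

theorem of_equiv_subgroup {p : ℕ} {G : Type*} [Group G] {X : Type*} [Group X] (K : Subgroup X)
    (h : Nonempty (G ≃* K)) (hK : FullP p K) : FullP p G := by
  obtain ⟨e⟩ := h
  exact FullP.of_mulEquiv e.symm hK

/-- **The Tits group at the prime 3.** -/
theorem fullP_tits_three {G : Type*} [Group G] [Finite G] (h : Cfsg.Lie.IsoTits G) : FullP 3 G :=
  of_equiv_subgroup (commutator ↥(Cfsg.Lie.twistedF4 (ZMod 2) 1)) h fullP_titsGroup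

end Cfsg.Agent.H761.TitsFull
end
end
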