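import Mathlib
import Cfsg.Agent.H761.TitsFull
import Cfsg.Agent.CpAutRuFive.Main
import Cfsg.Agent.H603.SporElim
import Cfsg.Agent.RuLat.Main
import Cfsg.Agent.FastGrp
import Cfsg.Agent.Prune
set_option linter.all false
prune_inst 0x7f00000000000000000000000000000000000000000000000000000000000000000000000000000000000000000000000000000000000000000000000000000000000000000000000000000000000000003fffffffffffffffffffffffffffbeffbdffffffff
open scoped Cfsg.Agent.FastGrp

/-!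
# `FullP 3` and `FullP 5` for the Rudvalis group (helper761)
-/

set_option autoImplicit false
set_option maxRecDepth 100000
set_option exponentiation.threshold 5000
set_option linter.style.haveILetI false

namespace Cfsg.Agent.H761.RuFull

open Subgroup Cfsg Cfsg.Agent.H749 Cfsg.Agent.SporadicB Cfsg.Agent.RuD.Letters Cfsg.Agent.SporRec.TCUpperCert
open Cfsg.Agent.KFacts.Ru Cfsg.Agent.KFacts.Ru.CentEng
open scoped commutatorElement

/-! ### the prime 3 -/

def z3 : List ℕ := [1, 7, 4]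
def x3 : List ℕ := [0, 8, 5, 1, 3, 5, 7, 1, 3, 6, 3, 0, 5, 4, 1, 7, 6, 7, 6, 2, 6, 3, 1]
def y3 : List ℕ := [6, 5, 8, 0, 5, 8, 3, 6, 5, 0, 5, 3, 6, 5, 7, 2]
def gx3 : List ℕ := [3, 6, 5, 7, 4, 0, 5, 3, 3, 1, 7, 5, 7]
def gy3 : List ℕ := [5, 8, 0, 7, 5, 8, 7, 1, 7, 1, 2, 6, 5, 3]

theorem k3x : chkEq (x3 ++ (x3 ++ x3)) [] = true := by decide +kernel
theorem k3y : chkEq (y3 ++ (y3 ++ y3)) [] = true := by decide +kernel
theorem k3c : chkEq (x3 ++ y3) (z3 ++ (y3 ++ x3)) = true := by decide +kernel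
theorem k3zx : chkEq (z3 ++ x3) (x3 ++ z3) = true := by decide +kernel
theorem k3zy : chkEq (z3 ++ y3) (y3 ++ z3) = true := by decide +kernel
theorem k3gx : chkEq (gx3 ++ z3) (x3 ++ gx3) = true := by decide +kernel
theorem k3gy : chkEq (gy3 ++ z3) (y3 ++ gy3) = true := by decide +kernel
theorem k3ne : Nat.beq (evalK z3 1) 1 = false := by decide +kernel

/-! ### the prime 5 -/

def z5 : List ℕ := [5, 0, 8]
def x5 : List ℕ := [7, 6, 6, 7, 5, 8, 3, 1, 1, 7, 5, 3, 5, 2, 5, 7, 5, 3, 6, 6, 7, 4, 5, 3, 1, 1, 3, 2]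
def y5 : List ℕ := [5, 7, 5, 3, 6, 6, 7, 4, 5, 3, 1, 1, 3, 2, 7, 6, 6, 7, 5, 8, 3, 1, 1, 7, 5, 3, 5, 2]
def gx5 : List ℕ := [0, 1, 4, 7, 5, 0, 6, 7, 6, 5, 3, 1, 3]
def gy5 : List ℕ := [0, 1, 4, 7, 6, 5, 0, 5, 7, 6, 5, 3, 1, 3]

theorem k5x : chkEq (x5 ++ (x5 ++ (x5 ++ (x5 ++ x5)))) [] = true := by decide +kernel
theorem k5y : chkEq (y5 ++ (y5 ++ (y5 ++ (y5 ++ y5)))) [] = true := by decide +kernel
theorem k5c : chkEq (x5 ++ y5) (z5 ++ (y5 ++ x5)) = true := by decide +kernel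
theorem k5zx : chkEq (z5 ++ x5) (x5 ++ z5) = true := by decide +kernel
theorem k5zy : chkEq (z5 ++ y5) (y5 ++ z5) = true := by decide +kernel
theorem k5gx : chkEq (gx5 ++ z5) (x5 ++ gx5) = true := by decide +kernel
theorem k5gy : chkEq (gy5 ++ z5) (y5 ++ gy5) = true := by decide +kernel
theorem k5ne : Nat.beq (evalK z5 1) 1 = false := by decide +kernel

theorem ne_one {w : List ℕ} (hne : Nat.beq (evalK w 1) 1 = false) : (wprod ml w : RuOrder.H) ≠ 1 := by
  intro h1
  have h2 := evalK_eq w ⟨1, by norm_num⟩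
  rw [h1] at h2
  have h3 : evalK w 1 = 1 := h2.symm
  rw [h3] at hne
  exact absurd hne (by decide)

theorem eq2 {u v u' v' : List ℕ} (h : chkEq (u ++ v) (u' ++ v') = true) :
    (wprod ml u * wprod ml v : RuOrder.H) = wprod ml u' * wprod ml v' := by
  have h1 := eq_of_chkEq h
  rwa [wprod_append, wprod_append] at h1

theorem pow3 {w : List ℕ} (h : chkEq (w ++ (w ++ w)) [] = true) : (wprod ml w : RuOrder.H) ^ 3 = 1 := by
  have h1 := eq_of_chkEq h
  rw [wprod_append, wprod_append, wprod_nil] at h1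
  rw [← h1]
  simp only [pow_succ, pow_zero, one_mul, mul_assoc]

theorem pow5 {w : List ℕ} (h : chkEq (w ++ (w ++ (w ++ (w ++ w)))) [] = true) :
    (wprod ml w : RuOrder.H) ^ 5 = 1 := by
  have h1 := eq_of_chkEq h
  rw [wprod_append, wprod_append, wprod_append, wprod_append, wprod_nil] at h1
  rw [← h1]
  simp only [pow_succ, pow_zero, one_mul, mul_assoc]

theorem comm_eq {x y z : List ℕ} (h : chkEq (x ++ y) (z ++ (y ++ x)) = true) :
    ⁅(wprod ml x : RuOrder.H), wprod ml y⁆ = wprod ml z := by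
  have h1 := eq_of_chkEq h
  rw [wprod_append, wprod_append, wprod_append] at h1
  rw [commutatorElement_def, h1]
  group

theorem finite_H : Finite RuOrder.H := by
  have : Finite (Equiv.Perm (Fin 4060)) := inferInstance
  infer_instance

theorem card_H : Nat.card RuOrder.H = 145926144000 :=
  NotCT.Orders.ru ⟨RuLat.Main.equiv.symm⟩

instance fact_three : Fact (Nat.Prime 3) := ⟨Nat.prime_three⟩
instance fact_five : Fact (Nat.Prime 5) := ⟨Nat.prime_five⟩

theorem fullP_H_three : FullP 3 RuOrder.H := by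
  have := finite_H
  refine ExtraFull.fullP_of_extra (x := wprod ml x3) (y := wprod ml y3) (gx := wprod ml gx3)
    (gy := wprod ml gy3) (pow3 k3x) (pow3 k3y) ?_ ?_ ?_ ?_ ?_ ?_
  · rw [comm_eq k3c]; exact eq2 k3zx
  · rw [comm_eq k3c]; exact eq2 k3zy
  · rw [comm_eq k3c]; exact ne_one k3ne
  · rw [card_H]; norm_num
  · rw [comm_eq k3c]; exact eq2 k3gx
  · rw [comm_eq k3c]; exact eq2 k3gy

theorem fullP_H_five : FullP 5 RuOrder.H := by
  have := finite_H
  refine ExtraFull.fullP_of_extra (x := wprod ml x5) (y := wprod ml y5) (gx := wprod ml gx5)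
    (gy := wprod ml gy5) (pow5 k5x) (pow5 k5y) ?_ ?_ ?_ ?_ ?_ ?_
  · rw [comm_eq k5c]; exact eq2 k5zx
  · rw [comm_eq k5c]; exact eq2 k5zy
  · rw [comm_eq k5c]; exact ne_one k5ne
  · rw [card_H]; norm_num
  · rw [comm_eq k5c]; exact eq2 k5gx
  · rw [comm_eq k5c]; exact eq2 k5gy

/-- **The Rudvalis group at the prime 3.** -/
theorem fullP_ru_three {G : Type*} [Group G] [Finite G] (h : Cfsg.Spor.IsoRu G) : FullP 3 G := by
  obtain ⟨e⟩ := h
  exact FullP.of_mulEquiv (e.trans RuLat.Main.equiv).symm fullP_H_three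

/-- **The Rudvalis group at the prime 5.** -/
theorem fullP_ru_five {G : Type*} [Group G] [Finite G] (h : Cfsg.Spor.IsoRu G) : FullP 5 G := by
  obtain ⟨e⟩ := h
  exact FullP.of_mulEquiv (e.trans RuLat.Main.equiv).symm fullP_H_five

end Cfsg.Agent.H761.RuFull
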